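import Groth.Agent.H30.ColimCoh.Vanish
import Mathlib.CategoryTheory.Abelian.GrothendieckCategory.Coseparator
import Mathlib.CategoryTheory.Abelian.GrothendieckAxioms.Colim

/-!
# Cohomology on compact opens commutes with filtered colimits (helper30)
-/

set_option linter.style.haveILetI false

universe u

open CategoryTheory CategoryTheory.Limits TopologicalSpace Opposite CategoryTheory.Abelian

namespace Groth.Agent.H30.ColimCoh.Main

open Groth.Agent.Lib.Cech

noncomputable section

variable {X : TopCat.{u}} {J : Type u} [SmallCategory J] [IsFiltered J]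

/-- The free abelian sheaf on an open. -/
abbrev P (U : Opens X) : CohTop.Ab X := CohCx.freeSheaf (Opens.grothendieckTopology X) U

/-- Functoriality in the sheaf. -/
abbrev mapE {U : Opens X} {F G : CohTop.Ab X} (φ : F ⟶ G) (n : ℕ) :
    Ext.{u} (P U) F n →+ Ext.{u} (P U) G n :=
  (Ext.mk₀ φ).postcomp (P U) (add_zero n)

lemma mapE_comp {U : Opens X} {F G H : CohTop.Ab X} (φ : F ⟶ G) (ψ : G ⟶ H) (n : ℕ)
    (x : Ext.{u} (P U) F n) : mapE (φ ≫ ψ) n x = mapE ψ n (mapE φ n x) := by
  simp [mapE, ← Ext.mk₀_comp_mk₀]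

omit [IsFiltered J] in
/-- An embedding of a diagram into a diagram of injective objects. -/
theorem exists_embedding (D : J ⥤ CohTop.Ab X) :
    ∃ (E : J ⥤ CohTop.Ab X) (η : D ⟶ E), Mono η ∧ ∀ j, Injective (E.obj j) := by
  obtain ⟨I, hI, hI'⟩ := Abelian.has_injective_coseparator (separator (CohTop.Ab X)) (isSeparator_separator _)
  let E : J ⥤ CohTop.Ab X :=
    { obj := fun j => ∏ᶜ fun _ : D.obj j ⟶ I => I
      map := fun {i j} a => Pi.lift fun g => Pi.π (fun _ : D.obj i ⟶ I => I) (D.map a ≫ g) }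
  let η : D ⟶ E :=
    { app := fun j => Pi.lift fun g => g
      naturality := fun i j a => Pi.hom_ext _ _ fun g => by simp [E] }
  haveI : ∀ j, Mono (η.app j) := fun j => Preadditive.mono_of_cancel_zero _ fun {Z} f hf =>
    (Preadditive.isCoseparator_iff I).1 hI' f fun g => by
      have := congrArg (· ≫ Pi.π (fun _ : D.obj j ⟶ I => I) g) hf
      simpa [η] using this
  exact ⟨E, η, NatTrans.mono_of_mono_app η, fun j => inferInstanceAs (Injective (∏ᶜ fun _ : D.obj j ⟶ I => I))⟩

omit [IsFiltered J] in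
theorem conn_naturality {U : Opens X} {S₁ S₂ : ShortComplex (CohTop.Ab X)} (h₁ : S₁.ShortExact)
    (h₂ : S₂.ShortExact) (τ : S₁ ⟶ S₂) (n : ℕ) (y : Ext.{u} (P U) S₁.X₃ n) :
    (mapE τ.τ₃ n y).comp h₂.extClass rfl = mapE τ.τ₁ (n + 1) (y.comp h₁.extClass rfl) := by
  change (y.comp (Ext.mk₀ τ.τ₃) (add_zero n)).comp h₂.extClass rfl =
    (y.comp h₁.extClass rfl).comp (Ext.mk₀ τ.τ₁) (add_zero (n + 1))
  rw [Ext.comp_assoc (a₁₂ := n) (a₂₃ := 1) y _ _ (add_zero n) (zero_add 1) (by omega),
    Ext.comp_assoc (a₁₂ := n + 1) (a₂₃ := 1) y _ _ rfl (add_zero 1) (by omega),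
    ShortComplex.ShortExact.extClass_naturality h₁ h₂ τ]

/-- Classes over the colimit come from a stage, and classes dying in the colimit die at a stage. -/
def Good (U : Opens X) (D : J ⥤ CohTop.Ab X) (n : ℕ) : Prop :=
  (∀ x : Ext.{u} (P U) (colimit D) n,
      ∃ (j : J) (y : Ext.{u} (P U) (D.obj j) n), mapE (colimit.ι D j) n y = x) ∧
    ∀ (j : J) (y : Ext.{u} (P U) (D.obj j) n), mapE (colimit.ι D j) n y = 0 →
      ∃ (k : J) (a : j ⟶ k), mapE (D.map a) n y = 0

/-- Degree zero cohomology is sections. -/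
def e₀ (U : Opens X) (F : CohTop.Ab X) : Ext.{u} (P U) F 0 ≃+ F.obj.obj (op U) :=
  Ext.addEquiv₀.trans (CohFree.homEquivSect (Opens.grothendieckTopology X) U F)

omit [IsFiltered J] in
theorem e₀_natural (U : Opens X) {F G : CohTop.Ab X} (φ : F ⟶ G) (x : Ext.{u} (P U) F 0) :
    e₀ U G (mapE φ 0 x) = Sections.app φ U (e₀ U F x) := by
  obtain ⟨ψ, rfl⟩ := (Ext.mk₀_bijective _ _).2 x
  show Ext.addEquiv₀.trans (CohFree.homEquivSect (Opens.grothendieckTopology X) U G)
    ((Ext.mk₀ ψ).comp (Ext.mk₀ φ) (add_zero 0)) = _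
  rw [Ext.mk₀_comp_mk₀]
  simp only [e₀, AddEquiv.trans_apply]
  rw [show Ext.addEquiv₀ (Ext.mk₀ (ψ ≫ φ)) = ψ ≫ φ from Ext.addEquiv₀.apply_symm_apply _,
    show Ext.addEquiv₀ (Ext.mk₀ ψ) = ψ from Ext.addEquiv₀.apply_symm_apply _]
  rfl

variable [PrespectralSpace X] [QuasiSeparatedSpace X]

theorem good_zero {U : Opens X} (hU : IsCompact (U : Set X)) (D : J ⥤ CohTop.Ab X) : Good U D 0 := by
  refine ⟨fun x => ?_, fun j y hy => ?_⟩
  · obtain ⟨j, t, ht⟩ := Sections.exists_rep (colimit.isColimit D) hU (e₀ U _ x)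
    refine ⟨j, (e₀ U _).symm t, (e₀ U _).injective ?_⟩
    rw [e₀_natural, AddEquiv.apply_symm_apply]
    exact ht
  · have h0 : Sections.app ((colimit.cocone D).ι.app j) U (e₀ U _ y) = 0 := by
      show Sections.app (colimit.ι D j) U _ = 0
      rw [← e₀_natural, hy, map_zero]
    obtain ⟨k, a, ha⟩ := Sections.exists_eq_zero (colimit.isColimit D) hU j _ h0
    refine ⟨k, a, (e₀ U _).injective ?_⟩
    rw [e₀_natural, ha, map_zero]

theorem good {U : Opens X} (hU : IsCompact (U : Set X)) (D : J ⥤ CohTop.Ab X) (n : ℕ) :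
    Good U D n := by
  induction n generalizing D with
  | zero => exact good_zero hU D
  | succ n ih =>
    obtain ⟨E, η, hη, hE⟩ := exists_embedding D
    haveI := hη
    let S := ShortComplex.mk η (cokernel.π η) (cokernel.condition η)
    have hS : S.ShortExact :=
      { exact := ShortComplex.exact_of_g_is_cokernel _ (cokernelIsCokernel η) }
    have hj : ∀ j, (S.map ((evaluation J (CohTop.Ab X)).obj j)).ShortExact := fun j => hS.map_of_exact _
    haveI : HasExactColimitsOfShape J (CohTop.Ab X) := AB5OfSize.ofShape J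
    haveI : PreservesFiniteLimits (colim : (J ⥤ CohTop.Ab X) ⥤ CohTop.Ab X) :=
      HasExactColimitsOfShape.preservesFiniteLimits
    have hinf : (S.map (colim : (J ⥤ CohTop.Ab X) ⥤ CohTop.Ab X)).ShortExact := hS.map_of_exact _
    let τ : ∀ j, S.map ((evaluation J (CohTop.Ab X)).obj j) ⟶ S.map (colim : (J ⥤ CohTop.Ab X) ⥤ CohTop.Ab X) :=
      fun j => ShortComplex.homMk (colimit.ι D j) (colimit.ι E j) (colimit.ι (cokernel η) j)
        (colimit.ι_map η j) (colimit.ι_map (cokernel.π η) j)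
    let σ : ∀ {i j : J}, (i ⟶ j) →
        (S.map ((evaluation J (CohTop.Ab X)).obj i) ⟶ S.map ((evaluation J (CohTop.Ab X)).obj j)) :=
      fun a => S.mapNatTrans ((evaluation J (CohTop.Ab X)).map a)
    have hEz : ∀ j (x : Ext.{u} (P U) (E.obj j) (n + 1)), x = 0 := fun j x =>
      haveI := hE j
      Ext.eq_zero_of_injective x
    have hEinf : ∀ x : Ext.{u} (P U) (colimit E) (n + 1), x = 0 := by
      haveI : Subsingleton (CohTop.HU (colimit E) (n + 1) U) := Vanish.subsingleton_HU (Vanish.acy_of_isColimit (colimit.isColimit E)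
        fun j => haveI := hE j; Vanish.acy_of_injective (E.obj j)) hU n
      intro x
      exact Subsingleton.elim (α := CohTop.HU (colimit E) (n + 1) U) x 0
    obtain ⟨hQs, hQi⟩ := ih (cokernel η)
    obtain ⟨hEs, -⟩ := ih E
    refine ⟨fun x => ?_, fun j y hy => ?_⟩
    · obtain ⟨z, hz⟩ := Ext.covariant_sequence_exact₁ (P U) hinf x (hEinf _) (n₀ := n) rfl
      obtain ⟨j, z', rfl⟩ := hQs z
      exact ⟨j, z'.comp (hj j).extClass rfl,
        ((conn_naturality (hj j) hinf (τ j) n z').symm).trans hz⟩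
    · obtain ⟨z, hz⟩ := Ext.covariant_sequence_exact₁ (P U) (hj j) y (hEz j _) (n₀ := n) rfl
      have h0 : (mapE (τ j).τ₃ n z).comp hinf.extClass rfl = 0 := by
        rw [conn_naturality (hj j) hinf (τ j) n z, hz]
        exact hy
      obtain ⟨t, ht⟩ := Ext.covariant_sequence_exact₃ (P U) hinf _ rfl h0
      obtain ⟨k, e, rfl⟩ := hEs t
      let a := IsFiltered.leftToMax j k
      let b := IsFiltered.rightToMax j k
      have hw : mapE (colimit.ι (cokernel η) _) n (mapE ((cokernel η).map a) n z -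
          mapE ((cokernel.π η).app _) n (mapE (E.map b) n e)) = 0 := by
        rw [map_sub, sub_eq_zero, ← mapE_comp, ← mapE_comp, ← mapE_comp, colimit.w,
          NatTrans.naturality_assoc, colimit.w, ← colimit.ι_map, mapE_comp]
        exact ht.symm
      obtain ⟨m, c, hc⟩ := hQi _ _ hw
      rw [map_sub, sub_eq_zero, ← mapE_comp, ← Functor.map_comp, ← mapE_comp,
        ← NatTrans.naturality, mapE_comp] at hc
      refine ⟨m, a ≫ c, ?_⟩
      rw [← hz]
      refine (conn_naturality (hj j) (hj m) (σ (a ≫ c)) n z).symm.trans ?_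
      show (mapE ((cokernel η).map (a ≫ c)) n z).comp _ _ = 0
      rw [hc]
      exact (Ext.comp_assoc_of_second_deg_zero _ _ _ _).trans (by
        erw [(hj m).comp_extClass, Ext.comp_zero])

omit [QuasiSeparatedSpace X] [PrespectralSpace X] in
theorem mapE_id {U : Opens X} (F : CohTop.Ab X) (n : ℕ) (x : Ext.{u} (P U) F n) :
    mapE (𝟙 F) n x = x := by
  simp [mapE]

/-- Cohomology on a compact open preserves filtered colimits. -/
theorem preservesColimitsOfShape {U : Opens X} (hU : IsCompact (U : Set X)) (n : ℕ) :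
    PreservesColimitsOfShape J
      ((Sheaf.cohomologyPresheafFunctor (Opens.grothendieckTopology X) n).flip.obj (op U) :
        CohTop.Ab X ⥤ AddCommGrpCat.{u}) := by
  refine ⟨fun {D} => preservesColimit_of_preserves_colimit_cocone (colimit.isColimit D) ?_⟩
  obtain ⟨hs, hi⟩ := good hU D n
  haveI : ReflectsColimitsOfShape J (forget AddCommGrpCat.{u}) :=
    reflectsColimitsOfShape_of_reflectsIsomorphisms
  refine isColimitOfReflects (forget AddCommGrpCat.{u}) ?_
  refine Types.FilteredColimit.isColimitOf _ _ (fun x => ?_) fun i j x y hxy => ?_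
  · obtain ⟨j, y, hy⟩ := hs x
    exact ⟨j, y, hy.symm⟩
  · let k := IsFiltered.max i j
    let a := IsFiltered.leftToMax i j
    let b := IsFiltered.rightToMax i j
    have h : mapE (colimit.ι D k) n (mapE (D.map a) n x - mapE (D.map b) n y) = 0 := by
      rw [map_sub, sub_eq_zero, ← mapE_comp, ← mapE_comp, colimit.w, colimit.w]
      exact hxy
    obtain ⟨m, c, hc⟩ := hi k _ h
    refine ⟨m, a ≫ c, b ≫ c, ?_⟩
    rw [map_sub, sub_eq_zero, ← mapE_comp, ← mapE_comp, ← D.map_comp, ← D.map_comp] at hc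
    exact hc

end

end Groth.Agent.H30.ColimCoh.Main
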