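import Groth.Prelude.Def_CohTop
import Mathlib.Topology.Sheaves.Skyscraper
import Mathlib.Topology.Sheaves.AddCommGrpCat
import Mathlib.Topology.Sheaves.SheafCondition.UniqueGluing
import Mathlib.Topology.Spectral.Prespectral
import Mathlib.Algebra.Category.Grp.FilteredColimits
import Mathlib.Order.Directed

/-!
# Sections of a filtered colimit of abelian sheaves over a compact open (helper30)
-/

universe u

open CategoryTheory CategoryTheory.Limits TopologicalSpace Opposite

namespace Groth.Agent.H30.ColimCoh.Sections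

variable {X : TopCat.{u}}

/-- Restriction of sections. -/
noncomputable abbrev res (F : CohTop.Ab X) {V W : Opens X} (h : V ≤ W) :
    F.obj.obj (op W) →+ F.obj.obj (op V) :=
  (F.obj.map (homOfLE h).op).hom

/-- The map on sections induced by a morphism of sheaves. -/
noncomputable abbrev app {F G : CohTop.Ab X} (φ : F ⟶ G) (V : Opens X) :
    F.obj.obj (op V) →+ G.obj.obj (op V) :=
  (φ.hom.app (op V)).hom

lemma res_res (F : CohTop.Ab X) {U V W : Opens X} (h : U ≤ V) (h' : V ≤ W)
    (s : F.obj.obj (op W)) : res F h (res F h' s) = res F (h.trans h') s := by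
  show (F.obj.map (homOfLE h).op).hom ((F.obj.map (homOfLE h').op).hom s) = _
  rw [← ConcreteCategory.comp_apply, ← F.obj.map_comp]
  rfl

lemma app_res {F G : CohTop.Ab X} (φ : F ⟶ G) {V W : Opens X} (h : V ≤ W)
    (s : F.obj.obj (op W)) : app φ V (res F h s) = res G h (app φ W s) :=
  ConcreteCategory.congr_hom (φ.hom.naturality (homOfLE h).op) s

lemma app_comp {F G H : CohTop.Ab X} (φ : F ⟶ G) (ψ : G ⟶ H) (V : Opens X)
    (s : F.obj.obj (op V)) : app (φ ≫ ψ) V s = app ψ V (app φ V s) := rfl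

/-- The stalk functor on abelian sheaves. -/
noncomputable abbrev stk (x : X) : CohTop.Ab X ⥤ AddCommGrpCat.{u} :=
  TopCat.Sheaf.forget AddCommGrpCat.{u} X ⋙ TopCat.Presheaf.stalkFunctor AddCommGrpCat.{u} x

instance (x : X) : (stk x).IsLeftAdjoint :=
  inferInstanceAs (TopCat.Sheaf.forget AddCommGrpCat.{u} X ⋙
    TopCat.Presheaf.stalkFunctor AddCommGrpCat.{u} x).IsLeftAdjoint

instance (x : X) {K : Type u} [Category.{u} K] : PreservesColimitsOfShape K (stk x) :=
  ((Adjunction.ofIsLeftAdjoint (stk x)).leftAdjoint_preservesColimits).preservesColimitsOfShape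

/-- The germ of a section. -/
noncomputable abbrev germ (F : CohTop.Ab X) (V : Opens X) (x : X) (hx : x ∈ V) :
    F.obj.obj (op V) →+ (stk x).obj F :=
  (TopCat.Presheaf.germ (C := AddCommGrpCat.{u}) (X := X) F.obj V x hx).hom

lemma stk_map_germ {F G : CohTop.Ab X} (φ : F ⟶ G) (V : Opens X) (x : X) (hx : x ∈ V)
    (s : F.obj.obj (op V)) : (stk x).map φ (germ F V x hx s) = germ G V x hx (app φ V s) :=
  TopCat.Presheaf.stalkFunctor_map_germ_apply V x hx φ.hom s

variable {J : Type u} [SmallCategory J] [IsFiltered J] {D : J ⥤ CohTop.Ab X} {c : Cocone D}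
  (hc : IsColimit c)

variable [PrespectralSpace X]

omit [IsFiltered J] in
/-- A compact open neighbourhood inside a given open. -/
lemma exists_compact_nhd {V : Opens X} {x : X} (hx : x ∈ V) :
    ∃ W : Opens X, x ∈ W ∧ W ≤ V ∧ IsCompact (W : Set X) := by
  obtain ⟨W, hW, hxW, hWV⟩ :=
    (Opens.isBasis_iff_nbhd.mp (PrespectralSpace.isBasis_opens X)) hx
  exact ⟨W, hxW, hWV, hW⟩

omit [IsFiltered J] [PrespectralSpace X] in
/-- A finite subcover of a family of neighbourhoods of the points of a compact open. -/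
lemma exists_finite_subcover {V : Opens X} (hV : IsCompact (V : Set X)) (W : V → Opens X)
    (hW : ∀ x : V, x.1 ∈ W x) : ∃ t : Finset V, ∀ y ∈ V, ∃ x ∈ t, y ∈ W x := by
  obtain ⟨t, ht⟩ := hV.elim_finite_subcover (fun x : V => ((W x : Opens X) : Set X))
    (fun x => (W x).2) (fun y hy => Set.mem_iUnion.2 ⟨⟨y, hy⟩, hW ⟨y, hy⟩⟩)
  refine ⟨t, fun y hy => ?_⟩
  simpa using ht hy

include hc in
omit [PrespectralSpace X] in
/-- A section dying in the colimit dies at a stage, locally. -/
lemma locally_zero {V : Opens X} (i : J) (t : (D.obj i).obj.obj (op V))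
    (h : app (c.ι.app i) V t = 0) (x : V) :
    ∃ (k : J) (a : i ⟶ k) (W : Opens X) (hW : W ≤ V),
      x.1 ∈ W ∧ res (D.obj k) hW (app (D.map a) V t) = 0 := by
  have hst := isColimitOfPreserves (stk x.1) hc
  have h0 : (stk x.1).map (c.ι.app i) (germ (D.obj i) V x.1 x.2 t) =
      (stk x.1).map (c.ι.app i) 0 := by
    rw [stk_map_germ, h, map_zero, map_zero]
  obtain ⟨k, a, b, hab⟩ := (Concrete.isColimit_rep_eq_iff_exists _ hst _ _).1 h0
  have hab' : germ (D.obj k) V x.1 x.2 (app (D.map a) V t) = germ (D.obj k) V x.1 x.2 0 := by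
    rw [← stk_map_germ]
    refine hab.trans ?_
    rw [map_zero, map_zero]
  obtain ⟨W, hxW, iU, iV, e⟩ := TopCat.Presheaf.germ_eq (D.obj k).obj x.1 x.2 x.2 _ _ hab'
  exact ⟨k, a, W, leOfHom iU, hxW, e.trans (map_zero _)⟩

include hc in
omit [PrespectralSpace X] in
/-- A section over a compact open dying in the colimit dies at a stage. -/
theorem exists_eq_zero {V : Opens X} (hV : IsCompact (V : Set X)) (i : J)
    (t : (D.obj i).obj.obj (op V)) (h : app (c.ι.app i) V t = 0) :
    ∃ (k : J) (a : i ⟶ k), app (D.map a) V t = 0 := by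
  classical
  choose k a W hW hx he using locally_zero hc i t h
  obtain ⟨T, hT⟩ := exists_finite_subcover hV W hx
  let H : Finset (Σ' (X Y : J) (_ : X ∈ insert i (T.image k)) (_ : Y ∈ insert i (T.image k)), X ⟶ Y) :=
    T.attach.image fun x => ⟨i, k x.1, Finset.mem_insert_self _ _,
      Finset.mem_insert_of_mem (Finset.mem_image_of_mem k x.2), a x.1⟩
  obtain ⟨S, hS, hH⟩ := IsFiltered.sup_exists (insert i (T.image k)) H
  refine ⟨S, hS (Finset.mem_insert_self _ _), ?_⟩
  refine TopCat.Sheaf.eq_of_locally_eq' (D.obj S) (fun x : T => W x.1) V (fun x => homOfLE (hW x.1))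
    (fun y hy => ?_) _ _ fun x => ?_
  · obtain ⟨x, hxT, hyx⟩ := hT y hy
    exact Opens.mem_iSup.2 ⟨⟨x, hxT⟩, hyx⟩
  · have hcomp : a x.1 ≫ hS (Finset.mem_insert_of_mem (Finset.mem_image_of_mem k x.2)) =
        hS (Finset.mem_insert_self _ _) := hH _ _
      (Finset.mem_image.2 ⟨x, Finset.mem_attach _ _, rfl⟩)
    show res (D.obj S) (hW x.1) (app (D.map _) V t) = res (D.obj S) (hW x.1) 0
    rw [← hcomp, Functor.map_comp, app_comp, ← app_res, he, map_zero, map_zero]

include hc in
/-- A section over the colimit comes locally from a stage. -/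
lemma locally_rep {V : Opens X} (s : c.pt.obj.obj (op V)) (x : V) :
    ∃ (j : J) (W : Opens X) (hW : W ≤ V) (t : (D.obj j).obj.obj (op W)),
      x.1 ∈ W ∧ IsCompact (W : Set X) ∧ app (c.ι.app j) W t = res c.pt hW s := by
  have hst := isColimitOfPreserves (stk x.1) hc
  obtain ⟨j, g, hg⟩ := Concrete.isColimit_exists_rep _ hst (germ c.pt V x.1 x.2 s)
  obtain ⟨W₀, hx₀, t, rfl⟩ := TopCat.Presheaf.exists_germ_eq (D.obj j).obj g
  have hg' : germ c.pt W₀ x.1 hx₀ (app (c.ι.app j) W₀ t) = germ c.pt V x.1 x.2 s :=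
    (stk_map_germ (c.ι.app j) W₀ x.1 hx₀ t).symm.trans hg
  obtain ⟨W₁, hx₁, iU, iV, e⟩ := TopCat.Presheaf.germ_eq c.pt.obj x.1 hx₀ x.2 _ _ hg'
  obtain ⟨W, hxW, hW₁, hWc⟩ := exists_compact_nhd hx₁
  refine ⟨j, W, hW₁.trans (leOfHom iV), res (D.obj j) (hW₁.trans (leOfHom iU)) t, hxW, hWc, ?_⟩
  have e' : res c.pt hW₁ (res c.pt (leOfHom iU) (app (c.ι.app j) W₀ t)) =
      res c.pt hW₁ (res c.pt (leOfHom iV) s) := congrArg (res c.pt hW₁) e
  rw [res_res, res_res] at e'
  rw [app_res]
  exact e'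

include hc in
/-- A section over a compact open comes from a stage. -/
theorem exists_rep [QuasiSeparatedSpace X] {V : Opens X} (hV : IsCompact (V : Set X))
    (s : c.pt.obj.obj (op V)) : ∃ (j : J) (t : (D.obj j).obj.obj (op V)), app (c.ι.app j) V t = s := by
  classical
  choose j W hW t hx hWc ht using locally_rep hc s
  obtain ⟨T, hT⟩ := exists_finite_subcover hV W hx
  obtain ⟨S, hS⟩ := IsFiltered.sup_objs_exists (T.image j)
  have hS' : ∀ x : T, Nonempty (j x.1 ⟶ S) := fun x => hS (Finset.mem_image_of_mem j x.2)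
  let g : ∀ x : T, j x.1 ⟶ S := fun x => (hS' x).some
  let t' : ∀ x : T, (D.obj S).obj.obj (op (W x.1)) := fun x => app (D.map (g x)) _ (t x.1)
  have ht' : ∀ x : T, app (c.ι.app S) _ (t' x) = res c.pt (hW x.1) s := fun x => by
    rw [← app_comp, c.w, ht]
  have hd : ∀ p : T × T, ∃ (k : J) (a : S ⟶ k), app (D.map a) (W p.1.1 ⊓ W p.2.1)
      (res (D.obj S) inf_le_left (t' p.1) - res (D.obj S) inf_le_right (t' p.2)) = 0 := fun p =>
    exists_eq_zero hc (QuasiSeparatedSpace.inter_isCompact _ _ (W p.1.1).2 (hWc p.1.1)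
      (W p.2.1).2 (hWc p.2.1)) S _ (by
        rw [map_sub, app_res, app_res, ht', ht']
        exact sub_eq_zero.2 ((res_res c.pt _ _ s).trans (res_res c.pt _ _ s).symm))
  choose k a ha using hd
  let O : Finset J := insert S (Finset.univ.image k)
  let H : Finset (Σ' (X Y : J) (_ : X ∈ O) (_ : Y ∈ O), X ⟶ Y) :=
    Finset.univ.image fun p => ⟨S, k p, Finset.mem_insert_self _ _,
      Finset.mem_insert_of_mem (Finset.mem_image_of_mem k (Finset.mem_univ p)), a p⟩
  obtain ⟨M, hM, hH⟩ := IsFiltered.sup_exists O H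
  let u : ∀ x : T, (D.obj M).obj.obj (op (W x.1)) :=
    fun x => app (D.map (hM (Finset.mem_insert_self _ _))) _ (t' x)
  have hu : TopCat.Presheaf.IsCompatible (D.obj M).obj (fun x : T => W x.1) u := fun x y => by
    have hcomp : a (x, y) ≫ hM (Finset.mem_insert_of_mem
        (Finset.mem_image_of_mem k (Finset.mem_univ (x, y)))) = hM (Finset.mem_insert_self _ _) :=
      hH _ _ (Finset.mem_image.2 ⟨(x, y), Finset.mem_univ _, rfl⟩)
    show res (D.obj M) inf_le_left (u x) = res (D.obj M) inf_le_right (u y)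
    simp only [u]
    rw [← sub_eq_zero]
    refine (congr (congrArg _ (app_res (D.map _) inf_le_left (t' x)).symm)
      (app_res (D.map _) inf_le_right (t' y)).symm).trans ?_
    rw [← map_sub, ← hcomp, Functor.map_comp, app_comp, ha, map_zero]
  have hcov : V ≤ ⨆ x : T, W x.1 := fun y hy => by
    obtain ⟨x, hxT, hyx⟩ := hT y hy
    exact Opens.mem_iSup.2 ⟨⟨x, hxT⟩, hyx⟩
  obtain ⟨r, hr, -⟩ := TopCat.Sheaf.existsUnique_gluing' (D.obj M) (fun x : T => W x.1) V
    (fun x => homOfLE (hW x.1)) hcov u hu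
  refine ⟨M, r, TopCat.Sheaf.eq_of_locally_eq' c.pt (fun x : T => W x.1) V
    (fun x => homOfLE (hW x.1)) hcov _ _ fun x => ?_⟩
  show res c.pt (hW x.1) (app (c.ι.app M) V r) = res c.pt (hW x.1) s
  rw [← app_res, show res (D.obj M) (hW x.1) r = u x from hr x, ← app_comp, c.w, ht']

end Groth.Agent.H30.ColimCoh.Sections
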