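import Groth.Agent.H30.ColimCoh.RpushPresheaf
import Mathlib.CategoryTheory.Sites.LocallyBijective
import Mathlib.CategoryTheory.Sites.LocallySurjective
import Mathlib.CategoryTheory.Sites.Equivalence
import Mathlib.Topology.Sheaves.AddCommGrpCat

/-!
# Higher direct images and colimits (helper30)
-/

universe u

open CategoryTheory Limits TopologicalSpace Opposite

namespace Groth.Agent.H30.ColimCoh.RpushColim

open RpushPresheaf

variable {X Y : TopCat.{u}}

/-- A map of presheaves which is bijective on a basis becomes an isomorphism after sheafification. -/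
theorem isIso_sheafify_of_basis {P Q : (Opens Y)ᵒᵖ ⥤ AddCommGrpCat.{u}} (c : P ⟶ Q)
    (B : Set (Opens Y)) (hB : Opens.IsBasis B) (h : ∀ V ∈ B, IsIso (c.app (op V))) :
    IsIso ((presheafToSheaf (Opens.grothendieckTopology Y) AddCommGrpCat.{u}).map c) := by
  have : Presheaf.IsLocallyInjective (Opens.grothendieckTopology Y) c := by
    refine ⟨fun {U} x y hxy z hz => ?_⟩
    obtain ⟨V, hVB, hzV, hVU⟩ := (Opens.isBasis_iff_nbhd.mp hB) hz
    refine ⟨V, homOfLE hVU, ?_, hzV⟩
    have := h V hVB
    refine (ConcreteCategory.bijective_of_isIso (c.app (op V))).1 ?_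
    exact (ConcreteCategory.congr_hom (c.naturality (homOfLE hVU).op) x).trans
      ((congrArg _ hxy).trans (ConcreteCategory.congr_hom (c.naturality (homOfLE hVU).op) y).symm)
  have : Presheaf.IsLocallySurjective (Opens.grothendieckTopology Y) c := by
    refine ⟨fun {U} s z hz => ?_⟩
    obtain ⟨V, hVB, hzV, hVU⟩ := (Opens.isBasis_iff_nbhd.mp hB) hz
    have := h V hVB
    obtain ⟨t, ht⟩ := (ConcreteCategory.bijective_of_isIso (c.app (op V))).2 (Q.map (homOfLE hVU).op s)
    exact ⟨V, homOfLE hVU, ⟨t, ht⟩, hzV⟩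
  have hW : (Opens.grothendieckTopology Y).W c :=
    ((Opens.grothendieckTopology Y).W_iff_isLocallyBijective c).2 ⟨inferInstance, inferInstance⟩
  exact (GrothendieckTopology.W_iff _ _).1 hW

variable (f : X ⟶ Y) {ι : Type u} [SmallCategory ι] (F : ι ⥤ CohTop.Ab X) (p : ℕ)

theorem preservesColimit (B : Set (Opens Y)) (hB : Opens.IsBasis B)
    (h : ∀ V ∈ B, PreservesColimit F
      ((Sheaf.cohomologyPresheafFunctor (Opens.grothendieckTopology X) p).flip.obj
        (op ((Opens.map f).obj V)))) :
    PreservesColimit F (CohTop.Rpush f p) := by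
  let T : CohTop.Ab X ⥤ (Opens Y)ᵒᵖ ⥤ AddCommGrpCat.{u} :=
    Sheaf.cohomologyPresheafFunctor (Opens.grothendieckTopology X) p ⋙
      (Functor.whiskeringLeft (Opens Y)ᵒᵖ (Opens X)ᵒᵖ AddCommGrpCat.{u}).obj (Opens.map f).op
  let L := presheafToSheaf (Opens.grothendieckTopology Y) AddCommGrpCat.{u}
  suffices PreservesColimit F (T ⋙ L) from
    @preservesColimit_of_natIso _ _ _ _ _ _ F (T ⋙ L) (CohTop.Rpush f p) ((rpushIso f p).symm) this
  let c : Cocone F := colimit.cocone F
  let φ : colimit (F ⋙ T) ⟶ T.obj c.pt := colimit.desc (F ⋙ T) (T.mapCocone c)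
  have hφ : IsIso (L.map φ) := isIso_sheafify_of_basis φ B hB fun V hV => by
    have := h V hV
    let ev := (evaluation (Opens Y)ᵒᵖ AddCommGrpCat.{u}).obj (op V)
    have h1 : IsColimit (ev.mapCocone (colimit.cocone (F ⋙ T))) :=
      isColimitOfPreserves ev (colimit.isColimit _)
    have h2 : IsColimit (ev.mapCocone (T.mapCocone c)) :=
      isColimitOfPreserves
        ((Sheaf.cohomologyPresheafFunctor (Opens.grothendieckTopology X) p).flip.obj
          (op ((Opens.map f).obj V))) (colimit.isColimit F)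
    have e : φ.app (op V) = (h1.coconePointUniqueUpToIso h2).hom := h1.hom_ext fun i =>
      (congrArg (fun α => α.app (op V)) (colimit.ι_desc (T.mapCocone c) i)).trans
        (h1.comp_coconePointUniqueUpToIso_hom h2 i).symm
    rw [e]
    infer_instance
  refine preservesColimit_of_preserves_colimit_cocone (colimit.isColimit F) ?_
  refine IsColimit.ofIsoColimit (isColimitOfPreserves L (colimit.isColimit (F ⋙ T))) ?_
  refine Cocone.ext (@asIso _ _ _ _ _ hφ) fun i => ?_
  exact (L.map_comp _ _).symm.trans (congrArg L.map (colimit.ι_desc (T.mapCocone c) i))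

end Groth.Agent.H30.ColimCoh.RpushColim
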