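import Groth.Agent.H30.TopCoh
import Groth.Agent.Lib.SiteCoh.CohPresheaf
import Groth.Agent.Lib.BigEt.Derived
import Mathlib.CategoryTheory.Abelian.Injective.Ext

/-!
# Higher direct images as sheafified cohomology presheaves, naturally (helper30)
-/

universe u v v' v'' u₁ u' u''

open CategoryTheory Limits TopologicalSpace Opposite Abelian

namespace Groth.Agent.H30.ColimCoh.RpushPresheaf

open Groth.Agent.Lib.BigEt.Derived

section Postcomp

variable {C : Type u₁} [Category.{v} C] [Abelian C] {D : Type u'} [Category.{v'} D] [Abelian D]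
  {E : Type u''} [Category.{v''} E] [Abelian E] [EnoughInjectives C]

variable (G : C ⥤ D) [G.Additive] (Ψ : D ⥤ E) [Ψ.Additive]
    [PreservesFiniteLimits Ψ] [PreservesFiniteColimits Ψ] (q : ℕ)

theorem postcompIso_naturality {Z W : C} (f : Z ⟶ W) :
    ((G ⋙ Ψ).rightDerived q).map f ≫ (postcompIso G Ψ q W).hom =
      (postcompIso G Ψ q Z).hom ≫ Ψ.map ((G.rightDerived q).map f) := by
  let φ := InjectiveResolution.desc f (InjectiveResolution.of W) (InjectiveResolution.of Z)
  have comm : (InjectiveResolution.of Z).ι.f 0 ≫ φ.f 0 = f ≫ (InjectiveResolution.of W).ι.f 0 :=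
    InjectiveResolution.desc_commutes_zero f _ _
  have h1 := InjectiveResolution.isoRightDerivedObj_hom_naturality f _ _ φ comm (G ⋙ Ψ) q
  have h3 := InjectiveResolution.isoRightDerivedObj_inv_naturality f _ _ φ comm G q
  let ψ := (HomologicalComplex.shortComplexFunctor D (ComplexShape.up ℕ) q).map
    ((G.mapHomologicalComplex (ComplexShape.up ℕ)).map φ)
  have h2 := ShortComplex.mapHomologyIso_hom_naturality ψ Ψ
  dsimp [postcompIso]
  rw [← Category.assoc, h1]
  simp only [Category.assoc]
  refine congrArg (_ ≫ ·) ?_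
  refine Eq.trans ?_ (congrArg (_ ≫ ·) (((congrArg Ψ.map h3).symm.trans (Ψ.map_comp _ _))))
  refine Eq.trans ?_ (congrArg (_ ≫ ·) (Ψ.map_comp _ _).symm)
  refine (Category.assoc _ _ _).symm.trans (Eq.trans (congrArg (· ≫ _) h2) (Category.assoc _ _ _))

/-- `R^q (G ⋙ Ψ) ≅ R^q G ⋙ Ψ`, naturally. -/
noncomputable def postcompNatIso : (G ⋙ Ψ).rightDerived q ≅ G.rightDerived q ⋙ Ψ :=
  NatIso.ofComponents (fun Z => postcompIso G Ψ q Z) (fun f => postcompIso_naturality G Ψ q f)

end Postcomp

variable {X Y : TopCat.{u}}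

/-- Sections as presheaves. -/
noncomputable abbrev E (X : TopCat.{u}) := sheafToPresheaf (Opens.grothendieckTopology X) AddCommGrpCat.{u}

section Coh

open Groth.Agent.Lib.SiteCoh.CohPresheaf

theorem homologyMap_naturality {F G : CohTop.Ab X} (g : F ⟶ G) {R : InjectiveResolution F}
    {R' : InjectiveResolution G} (φ : InjectiveResolution.Hom R R' g) (q : ℕ) :
    HomologicalComplex.homologyMap (((E X).mapHomologicalComplex _).map φ.hom) q ≫ homologyMap R' q =
      homologyMap R q ≫ (Sheaf.cohomologyPresheafFunctor (Opens.grothendieckTopology X) q).map g := by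
  let Φ : presheafCx R ⟶ presheafCx R' := ((E X).mapHomologicalComplex _).map φ.hom
  have hcyc : HomologicalComplex.cyclesMap Φ q ≫ cyclesMap R' q =
      cyclesMap R q ≫ (Sheaf.cohomologyPresheafFunctor (Opens.grothendieckTopology X) q).map g := by
    refine NatTrans.ext (funext fun U => ?_)
    refine AddCommGrpCat.hom_ext (AddMonoidHom.ext fun z => ?_)
    change (cyclesMap R' q).app (op U.unop) ((HomologicalComplex.cyclesMap Φ q).app (op U.unop) z) =
      Ext.comp ((cyclesMap R q).app (op U.unop) z) (Ext.mk₀ g) (add_zero q)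
    rw [cyclesMap_app, cyclesMap_app, InjectiveResolution.extMk_comp_mk₀ (R := R) _ _ _ _ φ]
    refine extMk_congr R' _ rfl (symm_comp_d R' q U.unop _) _ ?_
    rw [Groth.Agent.Lib.SiteCoh.Basic.homEquiv_symm_comp]
    refine congrArg _ ?_
    exact ConcreteCategory.congr_hom
      (NatTrans.congr_app (HomologicalComplex.cyclesMap_i Φ q) (op U.unop)) z
  change HomologicalComplex.homologyMap Φ q ≫ _ = _
  refine (cancel_epi ((presheafCx R).homologyπ q)).1 ?_
  refine (Category.assoc _ _ _).symm.trans ((congrArg (· ≫ _) (HomologicalComplex.homologyπ_naturality Φ q)).trans ?_)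
  refine (Category.assoc _ _ _).trans ((congrArg (_ ≫ ·) (homologyπ_homologyMap R' q)).trans (hcyc.trans ?_))
  exact (congrArg (· ≫ _) (homologyπ_homologyMap R q)).symm.trans (Category.assoc _ _ _)

/-- The derived functors of taking sections are the cohomology presheaves, naturally. -/
noncomputable def cohIso (q : ℕ) :
    (E X).rightDerived q ≅ Sheaf.cohomologyPresheafFunctor (Opens.grothendieckTopology X) q :=
  NatIso.ofComponents
    (fun F => (InjectiveResolution.of F).isoRightDerivedObj (E X) q ≪≫
      homologyIso (InjectiveResolution.of F) q)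
    fun {F G} g => by
      let φ : InjectiveResolution.Hom (InjectiveResolution.of F) (InjectiveResolution.of G) g :=
        { hom := InjectiveResolution.desc g (InjectiveResolution.of G) (InjectiveResolution.of F)
          ι_f_zero_comp_hom_f_zero := InjectiveResolution.desc_commutes_zero g _ _ }
      have h1 := InjectiveResolution.isoRightDerivedObj_hom_naturality g _ _ φ.hom
        (InjectiveResolution.desc_commutes_zero g _ _) (E X) q
      refine (Category.assoc _ _ _).symm.trans ((congrArg (· ≫ _) h1).trans ?_)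
      refine (Category.assoc _ _ _).trans ?_
      refine Eq.trans ?_ (Category.assoc _ _ _).symm
      exact congrArg (_ ≫ ·) (homologyMap_naturality g φ q)

end Coh

variable (f : X ⟶ Y)

/-- Restrict along `f⁻¹` and sheafify. -/
noncomputable abbrev psi :
    ((Opens X)ᵒᵖ ⥤ AddCommGrpCat.{u}) ⥤ CohTop.Ab Y :=
  (Functor.whiskeringLeft (Opens Y)ᵒᵖ (Opens X)ᵒᵖ AddCommGrpCat.{u}).obj (Opens.map f).op ⋙
    presheafToSheaf (Opens.grothendieckTopology Y) AddCommGrpCat.{u}

/-- `f_*` through presheaves. -/
noncomputable def pushIso : CohTop.push f ≅ E X ⋙ psi f :=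
  (Functor.rightUnitor _).symm ≪≫ Functor.isoWhiskerLeft (CohTop.push f) (TopCoh.shIso (Y := Y)).symm

instance : (psi f).Additive :=
  Functor.additive_of_preserves_binary_products _

/-- `R^q f_*` is sheafified cohomology of preimages, naturally. -/
noncomputable def rpushIso (q : ℕ) :
    CohTop.Rpush f q ≅
      Sheaf.cohomologyPresheafFunctor (Opens.grothendieckTopology X) q ⋙ psi f :=
  natIsoIso (pushIso f) q ≪≫ postcompNatIso (E X) (psi f) q ≪≫
    Functor.isoWhiskerRight (cohIso q) (psi f)

end Groth.Agent.H30.ColimCoh.RpushPresheaf
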