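import Groth.Agent.H30.ColimCoh.Sections
import Groth.Agent.Lib.Cech.Criterion

/-!
# Cech acyclicity on compact opens passes to filtered colimits (helper30)
-/

universe u

open CategoryTheory CategoryTheory.Limits TopologicalSpace Opposite

namespace Groth.Agent.H30.ColimCoh.Vanish

open Groth.Agent.Lib.Cech

variable {X : TopCat.{u}} [QuasiSeparatedSpace X]

/-- The compact opens. -/
abbrev cpt (X : TopCat.{u}) : Set (Opens X) := {V | IsCompact (V : Set X)}

lemma cpt_inf : ∀ V ∈ cpt X, ∀ W ∈ cpt X, V ⊓ W ∈ cpt X := fun V hV W hW =>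
  QuasiSeparatedSpace.inter_isCompact _ _ V.2 hV W.2 hW

/-- Finite families of compact opens have exact Cech complexes in positive degrees. -/
def Acy (F : CohTop.Ab X) : Prop :=
  ∀ (κ : Type u) [Finite κ] (U : κ → Opens X), (∀ a, IsCompact (U a : Set X)) →
    ∀ q, Complex.ExactSucc U F.obj q

omit [QuasiSeparatedSpace X] in
theorem acy_of_injective (F : CohTop.Ab X) [Injective F] : Acy F :=
  fun _ _ U _ q => Acyclic.exactSucc_of_injective U F q

variable [PrespectralSpace X] {J : Type u} [SmallCategory J] [IsFiltered J]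
  {D : J ⥤ CohTop.Ab X} {c : Cocone D}

/-- Cech acyclicity passes to filtered colimits. -/
theorem acy_of_isColimit (hc : IsColimit c) (h : ∀ j, Acy (D.obj j)) : Acy c.pt := by
  classical
  intro κ _ U hU q z hz
  cases nonempty_fintype κ
  have hci : ∀ {m : ℕ} (i : Fin (m + 1) → κ), IsCompact (Complex.inter U i : Set X) :=
    fun i => Criterion.inter_mem (cpt X) cpt_inf U hU i
  choose j t ht using fun i : Fin (q + 1 + 1) → κ => Sections.exists_rep hc (hci i) (z i)
  obtain ⟨S, hS⟩ := IsFiltered.sup_objs_exists (Finset.univ.image j)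
  let g : ∀ i, j i ⟶ S := fun i => (hS (Finset.mem_image_of_mem j (Finset.mem_univ i))).some
  let z' : Complex.Cochain U (D.obj S).obj (q + 1) := fun i => Sections.app (D.map (g i)) _ (t i)
  have hz' : Complex.map (c.ι.app S).hom (q + 1) z' = z := funext fun i => by
    show Sections.app (c.ι.app S) _ (Sections.app (D.map (g i)) _ (t i)) = z i
    rw [← Sections.app_comp, c.w]
    exact ht i
  have hd : ∀ i, ∃ (k : J) (a : S ⟶ k),
      Sections.app (D.map a) _ (Complex.dC U (D.obj S).obj (q + 1) z' i) = 0 := fun i =>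
    Sections.exists_eq_zero hc (hci i) S _
      ((congr_fun (Complex.map_dC (U := U) (c.ι.app S).hom (q + 1) z') i).trans (by
        erw [hz', hz]; rfl))
  choose k a ha using hd
  let O : Finset J := insert S (Finset.univ.image k)
  let H : Finset (Σ' (X Y : J) (_ : X ∈ O) (_ : Y ∈ O), X ⟶ Y) :=
    Finset.univ.image fun p => ⟨S, k p, Finset.mem_insert_self _ _,
      Finset.mem_insert_of_mem (Finset.mem_image_of_mem k (Finset.mem_univ p)), a p⟩
  obtain ⟨M, hM, hH⟩ := IsFiltered.sup_exists O H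
  obtain ⟨b, hb⟩ := h M κ U hU q
    (Complex.map (D.map (hM (Finset.mem_insert_self _ _))).hom (q + 1) z') (by
      rw [← Complex.map_dC]
      funext i
      have hcomp : a i ≫ hM (Finset.mem_insert_of_mem
          (Finset.mem_image_of_mem k (Finset.mem_univ i))) = hM (Finset.mem_insert_self _ _) :=
        hH _ _ (Finset.mem_image.2 ⟨i, Finset.mem_univ _, rfl⟩)
      show Sections.app (D.map _) _ _ = 0
      rw [← hcomp, Functor.map_comp, Sections.app_comp, ha, map_zero])
  refine ⟨Complex.map (c.ι.app M).hom q b, ?_⟩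
  rw [← Complex.map_dC, hb, ← hz']
  funext i
  show Sections.app (c.ι.app M) _ (Sections.app (D.map _) _ (z' i)) = _
  rw [← Sections.app_comp, c.w]
  rfl

/-- Cech-acyclic sheaves have no higher cohomology on compact opens. -/
theorem subsingleton_HU {F : CohTop.Ab X} (hF : Acy F) {W : Opens X} (hW : IsCompact (W : Set X))
    (n : ℕ) : Subsingleton (CohTop.HU F (n + 1) W) := by
  refine Criterion.subsingleton_HU_of_cech_vanishing (cpt X) cpt_inf
    (fun W' κ U => Finite κ ∧ iSup U = W' ∧ ∀ a, U a ∈ cpt X)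
    (fun W' κ U h => h.2) (fun W' hW' V hV => ?_) F
    (fun W' κ U h => by haveI := h.1; exact hF κ U h.2.2) W hW n
  have hW'' : ∀ x : W', ∃ O : Opens X, x.1 ∈ O ∧ O ≤ V x ⊓ W' ∧ IsCompact (O : Set X) := fun x =>
    Sections.exists_compact_nhd (show x.1 ∈ V x ⊓ W' from ⟨hV x, x.2⟩)
  choose O hxO hO hOc using hW''
  obtain ⟨T, hT⟩ := Sections.exists_finite_subcover hW' O hxO
  refine ⟨T, fun x => O x.1, ⟨inferInstance, le_antisymm (iSup_le fun x => (hO x.1).trans inf_le_right)
    fun y hy => ?_, fun x => hOc x.1⟩, fun x => ⟨x.1, (hO x.1).trans inf_le_left⟩⟩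
  obtain ⟨x, hxT, hyx⟩ := hT y hy
  exact Opens.mem_iSup.2 ⟨⟨x, hxT⟩, hyx⟩

end Groth.Agent.H30.ColimCoh.Vanish
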